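import Cfsg.Agent.Lib.Recog.HsTwoLocal.Certs.CBad0.Data

set_option autoImplicit false
set_option maxRecDepth 20000

/-! Generated certificate: a wrong constant (tools/cosetbound/gen_pairs.py; owner: helper21). -/

namespace CfsgLib.Recog.HsTwoLocal.Certs.CBad0
open CfsgLib.Recog.SporBound (Q)
open CfsgLib.Sporadic.PairEnum
open CfsgLib.ThreeTrans.CosetIndex (forallFrom)

set_option Elab.async false

theorem finals0 : cert.finalsPart 0 0 = true := by decide +kernel

theorem defs0 : forallFrom cert.defOK 0 5423 = true := by decide +kernel

end CfsgLib.Recog.HsTwoLocal.Certs.CBad0
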