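import Cfsg.Agent.Lib.Recog.HsTwoLocal.Certs.CBad0.Part0
import Cfsg.Agent.Lib.Recog.HsTwoLocal.Certs.CBad0.Part1

set_option autoImplicit false
set_option maxRecDepth 20000

/-! Generated certificate: a wrong constant (tools/cosetbound/gen_pairs.py; owner: helper21). -/

namespace CfsgLib.Recog.HsTwoLocal.Certs.CBad0
open CfsgLib.Recog.SporBound (Q)
open CfsgLib.Sporadic.PairEnum
open CfsgLib.ThreeTrans.CosetIndex (forallFrom)

theorem steps_ok : cert.stepsPart cert.allRels 0 cert.stepChunks = true := by
  have h0 := steps0
  have h1 : cert.stepsPart cert.allRels 0 120 = true := cert.stepsPart_cat h0 steps1 (by decide +kernel) (by decide +kernel)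
  have h2 : cert.stepsPart cert.allRels 0 171 = true := cert.stepsPart_cat h1 steps2 (by decide +kernel) (by decide +kernel)
  rw [show cert.stepChunks = 171 by decide +kernel]
  exact h2

theorem finals_ok : cert.finalsPart 0 cert.finalChunks = true := by
  have h0 := finals0
  rw [show cert.finalChunks = 0 by decide +kernel]
  exact h0

theorem defs_ok : forallFrom cert.defOK 0 cert.nd = true := by
  have h0 := defs0
  rw [show cert.nd = 5423 by decide +kernel]
  exact h0

theorem base_ok : (Nat.beq (cert.nodeOf 0) 0 && Nat.ble cert.nd cert.nf) = true := by decide +kernel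

theorem valid : cert.OK where
  base := by decide +kernel
  defs := defs_ok
  steps := steps_ok
  finals := finals_ok

theorem closers_ok : closers.all cert.closesOK = true := by decide +kernel

end CfsgLib.Recog.HsTwoLocal.Certs.CBad0
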